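import Groth.Agent.H46.FiberStalk
import Groth.Agent.Lib.DerivedOX.PullbackStalk
import Groth.Agent.Lib.Modules.StalkModule
import Groth.Agent.Lib.SqZeroMod.Basic
import Groth.Prelude.Def_FlatMod2
import Mathlib.RingTheory.Flat.Equalizer

/-!
# Restricting a monomorphism with relatively flat cokernel to a fibre
-/

set_option autoImplicit false
set_option linter.all false
set_option backward.isDefEq.respectTransparency.types false

universe u

open CategoryTheory CategoryTheory.Limits AlgebraicGeometry TensorProduct IsLocalRing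
open Groth.Agent.Lib.Modules.StalkModule

namespace Groth.Agent.Lib.FibMono72

/-- Reducing an exact sequence with flat quotient modulo an ideal of the base. -/
theorem injective_lTensor {A B C : Type u} [CommRing A] [CommRing B] [CommRing C] [Algebra A B] [Algebra B C]
    (hs : Function.Surjective (algebraMap B C)) (m : Ideal A)
    (hk : RingHom.ker (algebraMap B C) = m.map (algebraMap A B))
    {M N Q : Type u} [AddCommGroup M] [AddCommGroup N] [AddCommGroup Q] [Module B M] [Module B N] [Module B Q]
    [Module A M] [Module A N] [Module A Q] [IsScalarTower A B M] [IsScalarTower A B N] [IsScalarTower A B Q]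
    [Module.Flat A Q] (f : M →ₗ[B] N) (g : N →ₗ[B] Q) (hf : Function.Injective f) (hg : Function.Surjective g)
    (hfg : Function.Exact f g) : Function.Injective (f.lTensor C) := by
  have hinj := LinearMap.lTensor_injective_of_exact_of_flat (g.restrictScalars A) hg
    (f.restrictScalars A) hf hfg (A ⧸ m)
  have hsm : ∀ {P : Type u} [AddCommGroup P] [Module B P] [Module A P] [IsScalarTower A B P] (x : P),
      x ∈ m • (⊤ : Submodule A P) ↔ x ∈ m.map (algebraMap A B) • (⊤ : Submodule B P) := fun {P} _ _ _ _ x => by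
    constructor
    · intro hx
      refine Submodule.smul_induction_on hx (fun r hr y _ => ?_) fun y z => Submodule.add_mem _
      rw [← algebraMap_smul B r y]
      exact Submodule.smul_mem_smul (Ideal.mem_map_of_mem _ hr) trivial
    · intro hx
      refine Submodule.smul_induction_on hx (fun b hb y _ => ?_) fun y z => Submodule.add_mem _
      rw [Ideal.map] at hb
      induction hb using Submodule.span_induction generalizing y with
      | mem c hc =>
        obtain ⟨r, hr, rfl⟩ := hc
        rw [algebraMap_smul]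
        exact Submodule.smul_mem_smul hr trivial
      | zero => rw [zero_smul]; exact zero_mem _
      | add c c' _ _ h h' => rw [add_smul]; exact add_mem (h y trivial) (h' y trivial)
      | smul a c _ h => rw [smul_assoc, smul_comm]; exact h (a • y) trivial
  have hrep : ∀ {P : Type u} [AddCommGroup P] [Module B P] (w : C ⊗[B] P), ∃ a : P, (1 : C) ⊗ₜ[B] a = w :=
    fun {P} _ _ w => by
    induction w using TensorProduct.induction_on with
    | zero => exact ⟨0, tmul_zero _ _⟩
    | tmul c a =>
      obtain ⟨b, rfl⟩ := hs c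
      exact ⟨b • a, by rw [← smul_tmul, Algebra.algebraMap_eq_smul_one]⟩
    | add x y hx hy =>
      obtain ⟨x', rfl⟩ := hx
      obtain ⟨y', rfl⟩ := hy
      exact ⟨x' + y', tmul_add _ _ _⟩
  let e2 : (B ⧸ m.map (algebraMap A B)) ≃ₗ[B] C :=
    (Submodule.quotEquivOfEq _ _ (hk.symm.trans rfl)).trans
      (LinearMap.quotKerEquivOfSurjective (Algebra.linearMap B C) hs)
  have hz : ∀ {P : Type u} [AddCommGroup P] [Module B P] (x : P),
      (1 : C) ⊗ₜ[B] x = 0 ↔ x ∈ m.map (algebraMap A B) • (⊤ : Submodule B P) := fun {P} _ _ x => by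
    have h1 : e2 (Ideal.Quotient.mk _ 1) = 1 := map_one (algebraMap B C)
    let E := (TensorProduct.congr e2 (LinearEquiv.refl B P)).symm.trans
      (TensorProduct.quotTensorEquivQuotSMul P (m.map (algebraMap A B)))
    rw [← E.map_eq_zero_iff, ← h1]
    simp [E, Submodule.Quotient.mk_eq_zero]
  rw [injective_iff_map_eq_zero]
  intro w hw
  obtain ⟨a, rfl⟩ := hrep w
  rw [LinearMap.lTensor_tmul, hz, ← hsm] at hw
  rw [hz, ← hsm]
  have hA : ∀ {P : Type u} [AddCommGroup P] [Module A P] (x : P),
      (1 : A ⧸ m) ⊗ₜ[A] x = 0 ↔ x ∈ m • (⊤ : Submodule A P) := fun {P} _ _ x => by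
    rw [← (TensorProduct.quotTensorEquivQuotSMul P m).map_eq_zero_iff, ← map_one (Ideal.Quotient.mk m)]
    simp [Submodule.Quotient.mk_eq_zero]
  rw [← hA] at hw ⊢
  exact hinj (hw.trans (map_zero _).symm)

/-- The restriction to a fibre of a monomorphism with flat cokernel is a monomorphism. -/
theorem mono_fibre {X S : Scheme.{u}} (f : X ⟶ S) {T : ShortComplex X.Modules} (hT : T.ShortExact)
    (h3 : FlatMod.IsFlatOver f T.X₃) (y : S) :
    Mono ((Scheme.Modules.pullback (f.fiberι y)).map T.f) := by
  rw [mono_iff_stalkMapₗ_injective]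
  intro b
  let x := f.fiberι y b
  obtain ⟨hi, hg, hex⟩ := SqZeroMod.stalk_shortExact hT x
  letI := ((f.fiberι y).stalkMap b).hom.toAlgebra
  letI := (f.stalkMap x).hom.toAlgebra
  letI := FlatMod.moduleStalkOver f T.X₁ x
  letI := FlatMod.moduleStalkOver f T.X₂ x
  letI := FlatMod.moduleStalkOver f T.X₃ x
  haveI : IsScalarTower (S.presheaf.stalk (f x)) (X.presheaf.stalk x) (T.X₁.presheaf.stalk x) :=
    IsScalarTower.of_algebraMap_smul fun _ _ => rfl
  haveI : IsScalarTower (S.presheaf.stalk (f x)) (X.presheaf.stalk x) (T.X₂.presheaf.stalk x) :=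
    IsScalarTower.of_algebraMap_smul fun _ _ => rfl
  haveI : IsScalarTower (S.presheaf.stalk (f x)) (X.presheaf.stalk x) (T.X₃.presheaf.stalk x) :=
    IsScalarTower.of_algebraMap_smul fun _ _ => rfl
  haveI : Module.Flat (S.presheaf.stalk (f x)) (T.X₃.presheaf.stalk x) := h3 x
  have hinj := injective_lTensor (C := (f.fiber y).presheaf.stalk b) ((f.fiberι y).stalkMap_surjective b)
    (maximalIdeal (S.presheaf.stalk (f x))) (H46.FiberStalk.ker_stalkMap_fiberι f y b)
    (stalkMapₗ T.f x) (stalkMapₗ T.g x) hi hg hex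
  let e := DerivedOX.PullbackStalk.pullbackStalkIso (f.fiberι y) b
  let eF := (e.app T.X₁).toLinearEquiv
  let eG := (e.app T.X₂).toLinearEquiv
  have hu : ∀ z, stalkMapₗ ((Scheme.Modules.pullback (f.fiberι y)).map T.f) b (eF z) =
      eG ((stalkMapₗ T.f x).lTensor _ z) := fun z => (ConcreteCategory.congr_hom (e.hom.naturality T.f) z).symm
  intro a c hac
  obtain ⟨a', rfl⟩ := eF.surjective a
  obtain ⟨c', rfl⟩ := eF.surjective c
  exact congrArg eF (hinj (eG.injective ((hu a').symm.trans (hac.trans (hu c')))))

end Groth.Agent.Lib.FibMono72
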